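import Mathlib
import Groth.Prelude.Def_W4c6eohyperellchar2Gc

/-!
Basis computations for the explicit module `GcMod c k` and its operators `F`, `V`.
-/

set_option autoImplicit false

universe u

namespace GcChar2

open W4c6eohyperellchar2

variable {k : Type u} [Field k] [CharP k 2] [PerfectRing k 2] (c : ℕ)

lemma coefX_X (n m : ℕ) (hm : 1 ≤ m) : coefX (X c k n) m = if m = n ∧ m ≤ c then 1 else 0 := by
  unfold coefX X
  by_cases h : 1 ≤ m ∧ m ≤ c
  · rw [dif_pos h]
    by_cases hmn : m = n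
    · subst hmn
      simp [show m - 1 + 1 = m by omega, h.2]
    · simp [hmn, show m - 1 + 1 ≠ n by omega]
  · rw [dif_neg h, if_neg (by omega)]

lemma coefY_Y (n m : ℕ) (hm : 1 ≤ m) : coefY (Y c k n) m = if m = n ∧ m ≤ c then 1 else 0 := by
  unfold coefY Y
  by_cases h : 1 ≤ m ∧ m ≤ c
  · rw [dif_pos h]
    by_cases hmn : m = n
    · subst hmn
      simp [show m - 1 + 1 = m by omega, h.2]
    · simp [hmn, show m - 1 + 1 ≠ n by omega]
  · rw [dif_neg h, if_neg (by omega)]

lemma coefY_X (n m : ℕ) : coefY (X c k n) m = 0 := by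
  simp [coefY, X]

lemma coefX_Y (n m : ℕ) : coefX (Y c k n) m = 0 := by
  simp [coefX, Y]

lemma F_X_even {j : ℕ} (h1 : 1 ≤ j) (h2 : 2 * j ≤ c) : F c k (X c k (2 * j)) = X c k j := by
  refine Prod.ext (funext fun i => ?_) (funext fun i => ?_)
  · change coefX (X c k (2 * j)) (2 * (i.val + 1)) ^ 2 = if i.val + 1 = j then 1 else 0
    rw [coefX_X c _ _ (by omega)]
    by_cases h : i.val + 1 = j
    · rw [if_pos ⟨by omega, by omega⟩, if_pos h, one_pow]
    · rw [if_neg (by omega), if_neg h, zero_pow (by omega)]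
  · change coefX (X c k (2 * j)) (2 * (c - (i.val + 1)) + 1) ^ 2 = 0
    rw [coefX_X c _ _ (by omega), if_neg (by omega), zero_pow (by omega)]

lemma F_X_odd {j : ℕ} (h2 : 2 * j + 1 ≤ c) : F c k (X c k (2 * j + 1)) = Y c k (c - j) := by
  refine Prod.ext (funext fun i => ?_) (funext fun i => ?_)
  · change coefX (X c k (2 * j + 1)) (2 * (i.val + 1)) ^ 2 = 0
    rw [coefX_X c _ _ (by omega), if_neg (by omega), zero_pow (by omega)]
  · change coefX (X c k (2 * j + 1)) (2 * (c - (i.val + 1)) + 1) ^ 2 =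
      if i.val + 1 = c - j then 1 else 0
    have := i.isLt
    rw [coefX_X c _ _ (by omega)]
    by_cases h : i.val + 1 = c - j
    · rw [if_pos ⟨by omega, by omega⟩, if_pos h, one_pow]
    · rw [if_neg (by omega), if_neg h, zero_pow (by omega)]

lemma V_Y {j : ℕ} (h1 : 1 ≤ j) (h2 : 2 * j ≤ c) : V c k (Y c k j) = Y c k (2 * j) := by
  refine Prod.ext rfl (funext fun i => ?_)
  change (if (i.val + 1) % 2 = 0 then (frobeniusEquiv k 2).symm (coefY (Y c k j) ((i.val + 1) / 2))
    else (frobeniusEquiv k 2).symm (coefX (Y c k j) ((2 * c - i.val) / 2))) =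
      if i.val + 1 = 2 * j then 1 else 0
  by_cases hp : (i.val + 1) % 2 = 0
  · rw [if_pos hp, coefY_Y c _ _ (by omega)]
    by_cases h : i.val + 1 = 2 * j
    · rw [if_pos ⟨by omega, by omega⟩, if_pos h, map_one]
    · rw [if_neg (by omega), if_neg h, map_zero]
  · rw [if_neg hp, coefX_Y, map_zero, if_neg (by omega)]

lemma V_X {j : ℕ} (h1 : c < 2 * j) (h2 : j ≤ c) : V c k (X c k j) = Y c k (2 * c - 2 * j + 1) := by
  refine Prod.ext rfl (funext fun i => ?_)
  change (if (i.val + 1) % 2 = 0 then (frobeniusEquiv k 2).symm (coefY (X c k j) ((i.val + 1) / 2))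
    else (frobeniusEquiv k 2).symm (coefX (X c k j) ((2 * c - i.val) / 2))) =
      if i.val + 1 = 2 * c - 2 * j + 1 then 1 else 0
  have := i.isLt
  by_cases hp : (i.val + 1) % 2 = 0
  · rw [if_pos hp, coefY_X, map_zero, if_neg (by omega)]
  · rw [if_neg hp, coefX_X c _ _ (by omega)]
    by_cases h : i.val + 1 = 2 * c - 2 * j + 1
    · rw [if_pos ⟨by omega, by omega⟩, if_pos h, map_one]
    · rw [if_neg (by omega), if_neg h, map_zero]

lemma F_iter {l : ℕ} (hl : Odd l) :
    ∀ e : ℕ, 2 ^ e * l ≤ c → (F c k)^[e + 1] (X c k (2 ^ e * l)) = Y c k (c - (l - 1) / 2) := by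
  obtain ⟨q, rfl⟩ := hl
  intro e
  induction e with
  | zero =>
      intro h
      rw [pow_zero, one_mul] at h ⊢
      rw [Function.iterate_one, F_X_odd c h, show (2 * q + 1 - 1) / 2 = q by omega]
  | succ e ih =>
      intro h
      have h' : 2 * (2 ^ e * (2 * q + 1)) ≤ c := by rwa [← mul_assoc, ← pow_succ']
      have h1 : 1 ≤ 2 ^ e * (2 * q + 1) := Nat.mul_pos (Nat.two_pow_pos e) (by omega)
      rw [Function.iterate_succ_apply, pow_succ', mul_assoc, F_X_even c h1 h']
      exact ih (by omega)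

lemma V_iter : ∀ (n m : ℕ), 1 ≤ m → 2 ^ n * m ≤ c → (V c k)^[n] (Y c k m) = Y c k (2 ^ n * m) := by
  intro n
  induction n with
  | zero => intro m _ _; simp
  | succ n ih =>
      intro m h1 h2
      have h3 : 2 * m ≤ c := by
        refine le_trans ?_ h2
        rw [pow_succ', mul_assoc]
        exact Nat.mul_le_mul_left 2 (Nat.le_mul_of_pos_left m (Nat.two_pow_pos n))
      rw [Function.iterate_succ_apply, V_Y c h1 h3, ih (2 * m) (by omega) (by rwa [← mul_assoc, ← pow_succ]),
        ← mul_assoc, ← pow_succ]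

omit [CharP k 2] [PerfectRing k 2] in
lemma eq_sum (v : GcMod c k) :
    v = (∑ j : Fin c, v.1 j • X c k (j.val + 1)) + ∑ j : Fin c, v.2 j • Y c k (j.val + 1) := by
  refine Prod.ext (funext fun m => ?_) (funext fun m => ?_) <;>
    simp [Prod.fst_sum, Prod.snd_sum, Finset.sum_apply, X, Y, Fin.val_inj]

lemma Y_mem (N : Submodule k (GcMod c k)) (hV : ∀ v ∈ N, V c k v ∈ N)
    (hX : ∀ j : ℕ, c < 2 * j → j ≤ c → X c k j ∈ N) :
    ∀ m : ℕ, 1 ≤ m → m ≤ c → Y c k m ∈ N := by
  intro m
  induction m using Nat.strong_induction_on with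
  | _ m ih =>
      intro h1 h2
      rcases Nat.even_or_odd m with ⟨t, rfl⟩ | ⟨t, rfl⟩
      · rw [show t + t = 2 * t by omega, ← V_Y c (by omega) (by omega)]
        exact hV _ (ih t (by omega) (by omega) (by omega))
      · have h3 := hV _ (hX (c - t) (by omega) (by omega))
        rwa [V_X c (by omega) (by omega), show 2 * c - 2 * (c - t) + 1 = 2 * t + 1 by omega] at h3

lemma X_mem (N : Submodule k (GcMod c k)) (hF : ∀ v ∈ N, F c k v ∈ N)
    (hX : ∀ j : ℕ, c < 2 * j → j ≤ c → X c k j ∈ N) :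
    ∀ d j : ℕ, c - j = d → 1 ≤ j → j ≤ c → X c k j ∈ N := by
  intro d
  induction d using Nat.strong_induction_on with
  | _ d ih =>
      intro j hd h1 h2
      by_cases h : c < 2 * j
      · exact hX j h h2
      · rw [← F_X_even c h1 (by omega)]
        exact hF _ (ih (c - 2 * j) (by omega) (2 * j) rfl (by omega) (by omega))

end GcChar2
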